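import Cfsg.Agent.Lib.RegUni.Tv
import Cfsg.Agent.Lib.Helper5.SLn

set_option autoImplicit false

namespace Cfsg.Agent.RegUni

open Matrix

variable {F : Type*} [Field F] {ι : Type*} [Fintype ι] [DecidableEq ι]

/-- basis vector -/
abbrev bv (j : ι) : ι → F := Pi.single j 1

theorem bv_dot (j : ι) (a : ι → F) : (bv j : ι → F) ⬝ᵥ a = a j := by
  simp [bv]

theorem dot_bv (j : ι) (a : ι → F) : a ⬝ᵥ (bv j : ι → F) = a j := by
  simp [bv]

theorem Tm_mulVec (a φ x : ι → F) : Tm a φ *ᵥ x = x + (φ ⬝ᵥ x) • a := by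
  unfold Tm
  rw [add_mulVec, one_mulVec, vecMulVec_mulVec]
  ext i
  simp [mul_comm]

theorem vecMul_Tm (a φ ψ : ι → F) : ψ ᵥ* Tm a φ = ψ + (ψ ⬝ᵥ a) • φ := by
  unfold Tm
  rw [vecMul_add, vecMul_one, vecMul_vecMulVec]

/-- `Q(φ) ⊆ H`: all transvections with covector `φ` lie in `H`. -/
def Qin (H : Subgroup (Matrix.SpecialLinearGroup ι F)) (φ : ι → F) : Prop :=
  ∀ a : ι → F, φ ⬝ᵥ a = 0 → tv a φ ∈ H

theorem Qin_conj {H : Subgroup (Matrix.SpecialLinearGroup ι F)} {g : Matrix.SpecialLinearGroup ι F}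
    (hg : g ∈ H) {φ : ι → F} (h : Qin H φ) : Qin H (φ ᵥ* g.1) := by
  intro b hb
  have ha : φ ⬝ᵥ (g.1 *ᵥ b) = 0 := by rw [dotProduct_mulVec]; exact hb
  have h1 := conj_tv g⁻¹ ha
  rw [inv_inv, mulVec_mulVec, inv_val_mul, one_mulVec] at h1
  rw [← h1]
  exact H.mul_mem (H.mul_mem (H.inv_mem hg) (h _ ha)) hg

theorem Qin_of_smul {H : Subgroup (Matrix.SpecialLinearGroup ι F)} {c : F} (hc : c ≠ 0) {φ : ι → F}
    (h : Qin H (c • φ)) : Qin H φ := by
  intro a ha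
  have h1 : (c • φ) ⬝ᵥ (c⁻¹ • a) = 0 := by
    rw [smul_dotProduct, dotProduct_smul, ha, smul_zero, smul_zero]
  have h2 := h _ h1
  rw [tv_smul_comm, smul_smul, inv_mul_cancel₀ hc, one_smul] at h2
  exact h2

theorem transvection_eq_tv {i j : ι} (hij : i ≠ j) (s : F) :
    Matrix.SpecialLinearGroup.transvection hij s = tv (s • (bv i : ι → F)) (bv j) := by
  have h0 : (bv j : ι → F) ⬝ᵥ (s • (bv i : ι → F)) = 0 := by
    rw [bv_dot]; simp [bv, hij.symm]
  apply Subtype.ext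
  rw [tv_val h0, Matrix.SpecialLinearGroup.transvection_coe]
  unfold Tm
  congr 1
  ext k l
  simp [vecMulVec_apply, Matrix.single_apply, bv, Pi.single_apply]
  by_cases hk : k = i <;> by_cases hl : l = j <;> simp [hk, hl, eq_comm]
  · intro h; exact absurd h.symm hl
  · intro h; exact absurd h.symm hk
  · intro h; exact absurd h.symm hk

/-- If `Q(e_j) ⊆ H` for all `j` then `H = ⊤`. -/
theorem eq_top_of_Qin [Nontrivial ι] {H : Subgroup (Matrix.SpecialLinearGroup ι F)}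
    (h : ∀ j : ι, Qin H (bv j)) : H = ⊤ := by
  have htr : ∀ (i j : ι) (hij : i ≠ j) (s : F),
      Matrix.SpecialLinearGroup.transvection hij s ∈ H := by
    intro i j hij s
    rw [transvection_eq_tv]
    apply h j
    rw [bv_dot]; simp [bv, hij.symm]
  refine le_antisymm le_top (fun A _ ↦ ?_)
  refine Matrix.SpecialLinearGroup.diagonal_transvection_induction' (fun A => A ∈ H) A
    ?_ htr (fun _ _ ↦ H.mul_mem)
  intro i j hij c hc
  rw [Cfsg.Agent.Lib.Helper5.SLn.diag2n_decompose hij c hc]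
  exact H.mul_mem (H.mul_mem (H.mul_mem (H.mul_mem (H.mul_mem (htr _ _ _ _) (htr _ _ _ _))
    (htr _ _ _ _)) (htr _ _ _ _)) (htr _ _ _ _)) (htr _ _ _ _)

end Cfsg.Agent.RegUni
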