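import Cfsg.Agent.Lib.RegUni.Build

set_option autoImplicit false

namespace Cfsg.Agent.RegUni

open Matrix

variable {F : Type*} [Field F] {m : ℕ}

/-- the weighted reversal matrix -/
def hMat (lam : Fin (m + 3) → F) : Matrix (Fin (m + 3)) (Fin (m + 3)) F :=
  Matrix.of fun i j => if j = Fin.rev i then lam j else 0

theorem hMat_apply (lam : Fin (m + 3) → F) (i j : Fin (m + 3)) :
    hMat lam i j = if j = Fin.rev i then lam j else 0 := rfl

theorem hMat_col (lam : Fin (m + 3) → F) (k : Fin (m + 3)) :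
    hMat lam *ᵥ (bv k : Fin (m + 3) → F) = lam k • bv (Fin.rev k) := by
  ext i
  rw [mulVec_single_one]
  simp only [Matrix.col_apply, hMat_apply, bv, Pi.smul_apply, Pi.single_apply, smul_eq_mul]
  by_cases h : k = Fin.rev i
  · subst h
    simp [Fin.rev_rev]
  · have h' : ¬ (i = Fin.rev k) := by
      intro h2; apply h; rw [h2, Fin.rev_rev]
    simp [h, h']

theorem hMat_row (lam : Fin (m + 3) → F) (j : Fin (m + 3)) :
    (bv j : Fin (m + 3) → F) ᵥ* hMat lam = lam (Fin.rev j) • bv (Fin.rev j) := by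
  ext k
  rw [single_one_vecMul]
  simp only [Matrix.row_apply, hMat_apply, bv, Pi.smul_apply, Pi.single_apply, smul_eq_mul]
  by_cases h : k = Fin.rev j
  · simp [h]
  · simp [h]

theorem det_hMat (lam : Fin (m + 3) → F) :
    (hMat lam).det =
      ((Equiv.Perm.sign (Fin.revPerm : Equiv.Perm (Fin (m + 3))) : ℤˣ) : ℤ) * ∏ k, lam k := by
  have h : hMat lam = (Matrix.diagonal lam).submatrix (Fin.revPerm : Equiv.Perm (Fin (m + 3))) id := by
    ext i j
    simp only [hMat_apply, Matrix.submatrix_apply, Fin.revPerm_apply, id, Matrix.diagonal_apply]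
    by_cases h : j = Fin.rev i
    · simp [h]
    · have h' : ¬ (Fin.rev i = j) := fun h2 => h h2.symm
      simp [h, h']
  rw [h, Matrix.det_permute, Matrix.det_diagonal]

theorem sign_cast_ne_zero (σ : Equiv.Perm (Fin (m + 3))) :
    (((Equiv.Perm.sign σ : ℤˣ) : ℤ) : F) ≠ 0 := by
  rcases Int.units_eq_one_or (Equiv.Perm.sign σ) with h | h
  · rw [h]; simp
  · rw [h]; simp

theorem inv_mulVec_of (g : Matrix.SpecialLinearGroup (Fin (m + 3)) F) {x y : Fin (m + 3) → F}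
    (h : g.1 *ᵥ x = y) : (g⁻¹).1 *ᵥ y = x := by
  rw [← h, mulVec_mulVec, inv_val_mul, one_mulVec]

theorem vecMul_inv_of (g : Matrix.SpecialLinearGroup (Fin (m + 3)) F) {x y : Fin (m + 3) → F}
    (h : x ᵥ* g.1 = y) : y ᵥ* (g⁻¹).1 = x := by
  rw [← h, vecMul_vecMul, val_mul_inv, vecMul_one]

theorem conj_g (u : Matrix.SpecialLinearGroup (Fin (m + 3)) F)
    (hu0 : u.1 *ᵥ (bv 0 : Fin (m + 3) → F) = bv 0)
    (hurl : (bv (Fin.last _) : Fin (m + 3) → F) ᵥ* u.1 = bv (Fin.last _))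
    (hurp : (bv (Fin.last (m + 1)).castSucc : Fin (m + 3) → F) ᵥ* u.1
      = bv (Fin.last (m + 1)).castSucc + bv (Fin.last _)) (μ : F) :
    tv (μ • (bv 0 : Fin (m + 3) → F)) (bv (Fin.last (m + 1)).castSucc) * u *
      (tv (μ • (bv 0 : Fin (m + 3) → F)) (bv (Fin.last (m + 1)).castSucc))⁻¹
      = tv (μ • (bv 0 : Fin (m + 3) → F)) (bv (Fin.last _)) * u := by
  set a : Fin (m + 3) → F := μ • (bv 0 : Fin (m + 3) → F) with ha
  set pl : Fin (m + 3) := (Fin.last (m + 1)).castSucc with hpl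
  have hpl0 : pl ≠ 0 := by
    intro h; have := congrArg Fin.val h; simp [hpl] at this
  have hl0 : Fin.last (m + 2) ≠ 0 := by
    intro h; have := congrArg Fin.val h; simp at this
  have hd : (bv pl : Fin (m + 3) → F) ⬝ᵥ a = 0 := by
    rw [bv_dot, ha]; simp [bv, hpl0]
  have hdl : (bv (Fin.last _) : Fin (m + 3) → F) ⬝ᵥ a = 0 := by
    rw [bv_dot, ha]; simp [bv, hl0]
  have hd' : (bv pl : Fin (m + 3) → F) ⬝ᵥ (-a) = 0 := by rw [dotProduct_neg, hd, neg_zero]
  have hua : u.1 *ᵥ (-a) = -a := by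
    rw [mulVec_neg, ha, mulVec_smul, hu0]
  have hinv : (bv pl : Fin (m + 3) → F) ᵥ* (u⁻¹).1 = bv pl - bv (Fin.last _) := by
    apply vecMul_inv_of
    rw [sub_vecMul, hurp, hurl, add_sub_cancel_right]
  have h1 : u * (tv a (bv pl))⁻¹ * u⁻¹ = tv a (-(bv pl - bv (Fin.last _))) := by
    rw [tv_inv hd, conj_tv u hd', hua, hinv]
    have := tv_smul_comm (-1 : F) a (bv pl - bv (Fin.last _))
    rwa [neg_one_smul, neg_one_smul] at this
  have h2 : tv a (bv pl) * u * (tv a (bv pl))⁻¹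
      = tv a (bv pl) * (u * (tv a (bv pl))⁻¹ * u⁻¹) * u := by group
  rw [h2, h1]
  have hd2 : (-((bv pl : Fin (m + 3) → F) - bv (Fin.last _))) ⬝ᵥ a = 0 := by
    rw [neg_dotProduct, sub_dotProduct, hd, hdl, sub_zero, neg_zero]
  rw [tv_mul_same_vec hd hd2]
  congr 2
  abel

section final

/-- product of the tail weights -/
def tailProd (m : ℕ) (ζ : F) : F :=
  ∏ k : Fin (m + 2), (if k.succ = Fin.last (m + 2) then (1 : F) else ζ)

/-- the sign of the reversal, in `F` -/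
def sgnF (F : Type*) [Field F] (m : ℕ) : F :=
  (((Equiv.Perm.sign (Fin.revPerm : Equiv.Perm (Fin (m + 3))) : ℤˣ) : ℤ) : F)

/-- the weights -/
def lamW (m : ℕ) (ζ : F) : Fin (m + 3) → F :=
  fun k => if k = 0 then (sgnF F m * tailProd m ζ)⁻¹ else if k = Fin.last _ then 1 else ζ

theorem tailProd_ne_zero {ζ : F} (hζ0 : ζ ≠ 0) : tailProd m ζ ≠ 0 := by
  unfold tailProd
  rw [Finset.prod_ne_zero_iff]
  intro k _
  split_ifs
  · exact one_ne_zero
  · exact hζ0

theorem lamW_ne_zero {ζ : F} (hζ0 : ζ ≠ 0) (k : Fin (m + 3)) : lamW m ζ k ≠ 0 := by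
  unfold lamW
  split_ifs
  · exact inv_ne_zero (mul_ne_zero (sign_cast_ne_zero _) (tailProd_ne_zero hζ0))
  · exact one_ne_zero
  · exact hζ0

theorem det_hMat_lamW {ζ : F} (hζ0 : ζ ≠ 0) : (hMat (lamW m ζ)).det = 1 := by
  rw [det_hMat, Fin.prod_univ_succ]
  have h1 : ∏ k : Fin (m + 2), lamW m ζ k.succ = tailProd m ζ := by
    unfold tailProd
    apply Finset.prod_congr rfl
    intro k _
    simp [lamW, Fin.succ_ne_zero]
  have h0 : lamW m ζ 0 = (sgnF F m * tailProd m ζ)⁻¹ := by simp [lamW]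
  rw [h1, h0]
  have hne : sgnF F m * tailProd m ζ ≠ 0 :=
    mul_ne_zero (sign_cast_ne_zero _) (tailProd_ne_zero hζ0)
  change sgnF F m * ((sgnF F m * tailProd m ζ)⁻¹ * tailProd m ζ) = 1
  rw [mul_comm _ (tailProd m ζ), ← mul_assoc, mul_inv_cancel₀ hne]

end final

end Cfsg.Agent.RegUni
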