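import Cfsg.Agent.Lib.RegUni.Gen

set_option autoImplicit false

namespace Cfsg.Agent.RegUni

open Matrix

variable {F : Type*} [Field F] {m : ℕ}

/-- the upper Jordan block -/
def Jm (F : Type*) [Field F] (m : ℕ) : Matrix (Fin (m + 3)) (Fin (m + 3)) F :=
  Matrix.of fun i j => if i.val = j.val then 1 else if i.val + 1 = j.val then 1 else 0

theorem Jm_apply (i j : Fin (m + 3)) :
    Jm F m i j = if i.val = j.val then 1 else if i.val + 1 = j.val then 1 else 0 := rfl

theorem det_Jm : (Jm F m).det = 1 := by
  rw [Matrix.det_of_isUpperTriangular]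
  · simp [Jm_apply]
  · intro i j hij
    have h1 : ¬ (i.val = j.val) := by
      have : j.val < i.val := hij
      omega
    have h2 : ¬ (i.val + 1 = j.val) := by
      have : j.val < i.val := hij
      omega
    simp [Jm_apply, h1, h2]

theorem Jm_col_zero : Jm F m *ᵥ (bv 0 : Fin (m + 3) → F) = bv 0 := by
  ext i
  rw [mulVec_single_one]
  simp only [Matrix.col_apply, Jm_apply, bv, Pi.single_apply, Fin.ext_iff, Fin.val_zero]
  split_ifs <;> first | (exfalso; omega) | rfl

theorem Jm_col_succ (t : Fin (m + 2)) :
    Jm F m *ᵥ (bv t.succ : Fin (m + 3) → F) = bv t.succ + bv t.castSucc := by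
  ext i
  rw [mulVec_single_one]
  simp only [Matrix.col_apply, Jm_apply, bv, Pi.single_apply, Pi.add_apply, Fin.ext_iff,
    Fin.val_succ, Fin.val_castSucc]
  split_ifs <;> first | (exfalso; omega) | simp

theorem Jm_row_last : (bv (Fin.last _) : Fin (m + 3) → F) ᵥ* Jm F m = bv (Fin.last _) := by
  ext j
  rw [single_one_vecMul]
  have := j.isLt
  simp only [Matrix.row_apply, Jm_apply, bv, Pi.single_apply, Fin.ext_iff, Fin.val_last]
  split_ifs <;> first | (exfalso; omega) | rfl

theorem Jm_row_castSucc (t : Fin (m + 2)) :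
    (bv t.castSucc : Fin (m + 3) → F) ᵥ* Jm F m = bv t.castSucc + bv t.succ := by
  ext j
  rw [single_one_vecMul]
  simp only [Matrix.row_apply, Jm_apply, bv, Pi.single_apply, Pi.add_apply, Fin.ext_iff,
    Fin.val_succ, Fin.val_castSucc]
  split_ifs <;> first | (exfalso; omega) | simp

theorem Jm_sub_one_apply (i j : Fin (m + 3)) :
    (Jm F m - 1) i j = if i.val + 1 = j.val then 1 else 0 := by
  rw [Matrix.sub_apply, Jm_apply, Matrix.one_apply]
  simp only [Fin.ext_iff]
  split_ifs <;> first | (exfalso; omega) | simp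

theorem Jm_sub_one_pow (k : ℕ) (i j : Fin (m + 3)) :
    ((Jm F m - 1) ^ k) i j = if i.val + k = j.val then 1 else 0 := by
  induction k generalizing i j with
  | zero =>
    rw [pow_zero, Matrix.one_apply]
    simp only [Fin.ext_iff, add_zero]
  | succ k ih =>
    rw [pow_succ, Matrix.mul_apply]
    by_cases h : i.val + (k + 1) = j.val
    · rw [if_pos h]
      have hlt : i.val + k < m + 3 := by have := j.isLt; omega
      rw [Finset.sum_eq_single ⟨i.val + k, hlt⟩]
      · rw [ih, Jm_sub_one_apply]
        have h2 : i.val + k + 1 = j.val := by omega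
        simp [h2]
      · intro t _ ht
        rw [ih]
        have : ¬ (i.val + k = t.val) := by
          intro h'; apply ht; apply Fin.ext; simp; omega
        simp [this]
      · intro h'; exact absurd (Finset.mem_univ _) h'
    · rw [if_neg h]
      apply Finset.sum_eq_zero
      intro t _
      rw [ih, Jm_sub_one_apply]
      by_cases h1 : i.val + k = t.val
      · have h2 : ¬ (t.val + 1 = j.val) := by omega
        simp [h2]
      · simp [h1]

theorem Jm_isNilpotent : IsNilpotent (Jm F m - 1) := by
  refine ⟨m + 3, ?_⟩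
  ext i j
  rw [Jm_sub_one_pow]
  have := j.isLt
  have h : ¬ (i.val + (m + 3) = j.val) := by omega
  simp [h]

theorem Jm_pow_ne_zero : (Jm F m - 1) ^ (m + 3 - 1) ≠ 0 := by
  intro h
  have h1 := congrFun (congrFun h 0) (Fin.last _)
  rw [Jm_sub_one_pow] at h1
  simp at h1

end Cfsg.Agent.RegUni
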