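import Cfsg.Agent.Lib.RegUni.Asm

set_option autoImplicit false

namespace Cfsg.Agent.RegUni

open Matrix

variable {F : Type*} [Field F] {m : ℕ}

theorem exists_gen (ζ : F) (hζ0 : ζ ≠ 0) (hζ : ∀ x : F, x ≠ 0 → ∃ k : ℕ, x = ζ ^ k) :
    ∃ u g h : Matrix.SpecialLinearGroup (Fin (m + 3)) F,
      (IsNilpotent ((u : Matrix (Fin (m + 3)) (Fin (m + 3)) F) - 1) ∧
        ((u : Matrix (Fin (m + 3)) (Fin (m + 3)) F) - 1) ^ (m + 3 - 1) ≠ 0) ∧
      Subgroup.closure ({u, g * u * g⁻¹, h * u * h⁻¹} :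
        Set (Matrix.SpecialLinearGroup (Fin (m + 3)) F)) = ⊤ := by
  set u : Matrix.SpecialLinearGroup (Fin (m + 3)) F := ⟨Jm F m, det_Jm⟩ with hu_def
  set lam : Fin (m + 3) → F := lamW m ζ with hlam
  set hh : Matrix.SpecialLinearGroup (Fin (m + 3)) F := ⟨hMat lam, det_hMat_lamW hζ0⟩ with hh_def
  have hlam0 : ∀ k, lam k ≠ 0 := lamW_ne_zero hζ0
  set v : Matrix.SpecialLinearGroup (Fin (m + 3)) F := hh * u * hh⁻¹ with hv_def
  set c : Fin (m + 2) → F := fun i => lam (Fin.rev i).castSucc / lam (Fin.rev i).succ with hc_def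
  have hc : ∀ i, c i ≠ 0 := fun i => div_ne_zero (hlam0 _) (hlam0 _)
  have hu1 : u.1 = Jm F m := rfl
  have hh1 : hh.1 = hMat lam := rfl
  have hvmul : ∀ x : Fin (m + 3) → F, v.1 *ᵥ x = hh.1 *ᵥ (u.1 *ᵥ ((hh⁻¹).1 *ᵥ x)) := by
    intro x
    rw [hv_def, Matrix.SpecialLinearGroup.coe_mul, Matrix.SpecialLinearGroup.coe_mul,
      mulVec_mulVec, mulVec_mulVec]
  have hvvec : ∀ x : Fin (m + 3) → F, x ᵥ* v.1 = ((x ᵥ* hh.1) ᵥ* u.1) ᵥ* (hh⁻¹).1 := by
    intro x
    rw [hv_def, Matrix.SpecialLinearGroup.coe_mul, Matrix.SpecialLinearGroup.coe_mul,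
      vecMul_vecMul, vecMul_vecMul, Matrix.mul_assoc]
  -- inverse actions of hh
  have hinvcol : ∀ k : Fin (m + 3), (hh⁻¹).1 *ᵥ (bv (Fin.rev k) : Fin (m + 3) → F)
      = (lam k)⁻¹ • bv k := by
    intro k
    have h1 : hh.1 *ᵥ ((lam k)⁻¹ • (bv k : Fin (m + 3) → F)) = bv (Fin.rev k) := by
      rw [mulVec_smul, hh1, hMat_col, smul_smul, inv_mul_cancel₀ (hlam0 k), one_smul]
    exact inv_mulVec_of hh h1
  have hinvrow : ∀ k : Fin (m + 3), (bv k : Fin (m + 3) → F) ᵥ* (hh⁻¹).1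
      = (lam k)⁻¹ • bv (Fin.rev k) := by
    intro k
    have h1 : ((lam k)⁻¹ • (bv (Fin.rev k) : Fin (m + 3) → F)) ᵥ* hh.1 = bv k := by
      rw [smul_vecMul, hh1, hMat_row, Fin.rev_rev, smul_smul, inv_mul_cancel₀ (hlam0 k), one_smul]
    exact vecMul_inv_of hh h1
  -- columns of v
  have hvc : ∀ i : Fin (m + 2), v.1 *ᵥ (bv i.castSucc : Fin (m + 3) → F)
      = bv i.castSucc + c i • bv i.succ := by
    intro i
    have e1 : i.castSucc = Fin.rev (Fin.rev i).succ := by rw [Fin.rev_succ, Fin.rev_rev]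
    have e2 : Fin.rev (Fin.rev i).castSucc = i.succ := by rw [Fin.rev_castSucc, Fin.rev_rev]
    rw [hvmul]
    conv_lhs => rw [e1]
    rw [hinvcol, mulVec_smul, hu1, Jm_col_succ, mulVec_smul, mulVec_add, hh1, hMat_col, hMat_col,
      ← e1, e2, smul_add, smul_smul, inv_mul_cancel₀ (hlam0 _), one_smul, smul_smul]
    congr 2
    rw [hc_def]; field_simp
  have hvl : v.1 *ᵥ (bv (Fin.last _) : Fin (m + 3) → F) = bv (Fin.last _) := by
    have e1 : Fin.last (m + 2) = Fin.rev 0 := (Fin.rev_zero _).symm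
    rw [hvmul]
    conv_lhs => rw [e1]
    rw [hinvcol, mulVec_smul, hu1, Jm_col_zero, mulVec_smul, hh1, hMat_col, smul_smul,
      inv_mul_cancel₀ (hlam0 _), one_smul, ← e1]
  have hvr : ∀ i : Fin (m + 2), (bv i.succ : Fin (m + 3) → F) ᵥ* v.1
      = bv i.succ + c i • bv i.castSucc := by
    intro i
    have e1 : Fin.rev i.succ = (Fin.rev i).castSucc := Fin.rev_succ i
    have e2 : Fin.rev (Fin.rev i).castSucc = i.succ := by rw [Fin.rev_castSucc, Fin.rev_rev]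
    have e3 : Fin.rev (Fin.rev i).succ = i.castSucc := by rw [Fin.rev_succ, Fin.rev_rev]
    rw [hvvec, hh1, hMat_row, e1, smul_vecMul, hu1, Jm_row_castSucc, smul_vecMul, add_vecMul,
      hinvrow, hinvrow, e2, e3, smul_add, smul_smul, mul_inv_cancel₀ (hlam0 _), one_smul, smul_smul]
    congr 2
    rw [hc_def]
    exact (div_eq_mul_inv _ _).symm
  -- the parameter
  set κ : F := -((bv (Fin.last _) : Fin (m + 3) → F) ᵥ* (v⁻¹).1) 0 with hκ
  set g : Matrix.SpecialLinearGroup (Fin (m + 3)) F :=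
    tv (κ⁻¹ • (bv 0 : Fin (m + 3) → F)) (bv (Fin.last (m + 1)).castSucc) with hg_def
  refine ⟨u, g, hh, ⟨Jm_isNilpotent, Jm_pow_ne_zero⟩, ?_⟩
  set H : Subgroup (Matrix.SpecialLinearGroup (Fin (m + 3)) F) :=
    Subgroup.closure ({u, g * u * g⁻¹, hh * u * hh⁻¹} :
      Set (Matrix.SpecialLinearGroup (Fin (m + 3)) F)) with hH
  have huH : u ∈ H := Subgroup.subset_closure (by simp)
  have hgH : g * u * g⁻¹ ∈ H := Subgroup.subset_closure (by simp)
  have hvH : v ∈ H := Subgroup.subset_closure (by simp [hv_def])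
  have hur : (bv (Fin.last _) : Fin (m + 3) → F) ᵥ* u.1 = bv (Fin.last _) := Jm_row_last
  have hurp : (bv (Fin.last (m + 1)).castSucc : Fin (m + 3) → F) ᵥ* u.1
      = bv (Fin.last (m + 1)).castSucc + bv (Fin.last _) := by
    have := Jm_row_castSucc (F := F) (Fin.last (m + 1))
    rwa [Fin.succ_last] at this
  have huc : u.1 *ᵥ (bv 1 : Fin (m + 3) → F) = bv 1 + bv 0 := by
    have := Jm_col_succ (F := F) (m := m) 0
    rwa [Fin.succ_zero_eq_one, Fin.castSucc_zero] at this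
  have hcg := conj_g u Jm_col_zero hur hurp κ⁻¹
  have hl0 : Fin.last (m + 2) ≠ 0 := by
    intro h; have := congrArg Fin.val h; simp at this
  have hy : InA H (κ⁻¹ • (bv 0 : Fin (m + 3) → F)) := by
    refine ⟨by simp [bv, hl0], ?_⟩
    have : tv (κ⁻¹ • (bv 0 : Fin (m + 3) → F)) (bv (Fin.last _)) = (g * u * g⁻¹) * u⁻¹ := by
      rw [hg_def, hcg, mul_inv_cancel_right]
    rw [this]
    exact H.mul_mem hgH (H.inv_mem huH)
  have hc0 : c 0 = ζ := by
    have h1 : lam (Fin.last (m + 1)).castSucc = ζ := by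
      have ha : (Fin.last (m + 1)).castSucc ≠ (0 : Fin (m + 3)) := by
        intro h; have := congrArg Fin.val h; simp at this
      have hb : (Fin.last (m + 1)).castSucc ≠ Fin.last (m + 2) := Fin.castSucc_ne_last _
      simp [hlam, lamW, ha, hb]
    have h2 : lam (Fin.last (m + 2)) = 1 := by
      simp [hlam, lamW, hl0]
    rw [hc_def]
    simp only [Fin.rev_zero, Fin.succ_last]
    rw [h1, h2, div_one]
  have hL := partA huH hvH hc hvc hvl hur huc ζ hζ hc0 hy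
  exact eq_top_of_Qin (partB hvH hc hvr hL)

end Cfsg.Agent.RegUni
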