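import Cfsg.Agent.Lib.RegUni.Core

set_option autoImplicit false

namespace Cfsg.Agent.RegUni

open Matrix

variable {F : Type*} [Field F] {m : ℕ}

/-- membership of the column-`last` transvection with vector `a`. -/
def InA (H : Subgroup (Matrix.SpecialLinearGroup (Fin (m + 3)) F)) (a : Fin (m + 3) → F) : Prop :=
  a (Fin.last _) = 0 ∧ tv a (bv (Fin.last _)) ∈ H

variable {H : Subgroup (Matrix.SpecialLinearGroup (Fin (m + 3)) F)}

theorem InA.add {a b : Fin (m + 3) → F} (ha : InA H a) (hb : InA H b) : InA H (a + b) := by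
  refine ⟨by rw [Pi.add_apply, ha.1, hb.1, add_zero], ?_⟩
  rw [← tv_mul_same_covec (by rw [bv_dot]; exact ha.1) (by rw [bv_dot]; exact hb.1)]
  exact H.mul_mem ha.2 hb.2

theorem InA.neg {a : Fin (m + 3) → F} (ha : InA H a) : InA H (-a) := by
  refine ⟨by rw [Pi.neg_apply, ha.1, neg_zero], ?_⟩
  rw [← tv_inv (by rw [bv_dot]; exact ha.1)]
  exact H.inv_mem ha.2

theorem InA.sub {a b : Fin (m + 3) → F} (ha : InA H a) (hb : InA H b) : InA H (a - b) := by
  rw [sub_eq_add_neg]; exact ha.add hb.neg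

theorem InA.zero : InA H (0 : Fin (m + 3) → F) :=
  ⟨rfl, by rw [tv_zero_left]; exact H.one_mem⟩

theorem InA.conj_u {u : Matrix.SpecialLinearGroup (Fin (m + 3)) F} (hu : u ∈ H)
    (hur : (bv (Fin.last _) : Fin (m + 3) → F) ᵥ* u.1 = bv (Fin.last _))
    {a : Fin (m + 3) → F} (ha : InA H a) : InA H (u.1 *ᵥ a) := by
  have hinv : (bv (Fin.last _) : Fin (m + 3) → F) ᵥ* (u⁻¹).1 = bv (Fin.last _) := by
    conv_lhs => rw [← hur]
    rw [vecMul_vecMul, val_mul_inv, vecMul_one]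
  have h0 : (bv (Fin.last _) : Fin (m + 3) → F) ⬝ᵥ a = 0 := by rw [bv_dot]; exact ha.1
  have h1 := conj_tv u h0
  rw [hinv] at h1
  refine ⟨?_, ?_⟩
  · rw [← bv_dot (Fin.last _) (u.1 *ᵥ a), dotProduct_mulVec, hur, bv_dot]; exact ha.1
  · rw [← h1]
    exact H.mul_mem (H.mul_mem hu ha.2) (H.inv_mem hu)

/-- the key commutator step. -/
theorem InA.comm_v {v : Matrix.SpecialLinearGroup (Fin (m + 3)) F} (hv : v ∈ H)
    {s : F} {b : Fin (m + 3) → F} (hs : InA H (s • (bv 0 : Fin (m + 3) → F))) (hb : InA H b)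
    (hvb : (v.1 *ᵥ b) (Fin.last _) = 0) :
    InA H ((-((bv (Fin.last _) : Fin (m + 3) → F) ᵥ* (v⁻¹).1) 0 * s) • (v.1 *ᵥ b)) := by
  set eL : Fin (m + 3) → F := bv (Fin.last _) with heL
  set φ₀ : Fin (m + 3) → F := eL ᵥ* (v⁻¹).1 with hφ₀
  have h0 : eL ⬝ᵥ b = 0 := by rw [bv_dot]; exact hb.1
  have hs0 : eL ⬝ᵥ (s • (bv 0 : Fin (m + 3) → F)) = 0 := by rw [bv_dot]; exact hs.1
  -- w = v * tv b eL * v⁻¹
  have hw := conj_tv v h0
  rw [← hφ₀] at hw
  have hwH : tv (v.1 *ᵥ b) φ₀ ∈ H := by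
    rw [← hw]; exact H.mul_mem (H.mul_mem hv hb.2) (H.inv_mem hv)
  have hφvb : φ₀ ⬝ᵥ (v.1 *ᵥ b) = 0 := by
    rw [hφ₀, dotProduct_mulVec, vecMul_vecMul, inv_val_mul, vecMul_one]; exact h0
  have heLvb : eL ⬝ᵥ (v.1 *ᵥ b) = 0 := by rw [bv_dot]; exact hvb
  -- y w y⁻¹
  have hy := conj_tv (tv (s • (bv 0 : Fin (m + 3) → F)) eL) hφvb
  rw [tv_inv hs0, tv_val hs0, tv_val (by rw [dotProduct_neg, hs0, neg_zero]), Tm_mulVec, heLvb,
    zero_smul, add_zero, vecMul_Tm] at hy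
  have hdot : φ₀ ⬝ᵥ (-(s • (bv 0 : Fin (m + 3) → F))) = -(φ₀ 0 * s) := by
    rw [dotProduct_neg, dotProduct_smul, dot_bv, smul_eq_mul, mul_comm]
  rw [hdot] at hy
  have hsinv : tv (-(s • (bv 0 : Fin (m + 3) → F))) eL ∈ H := by
    rw [← tv_inv hs0]; exact H.inv_mem hs.2
  have hyH : tv (v.1 *ᵥ b) (φ₀ + (-(φ₀ 0 * s)) • eL) ∈ H := by
    rw [← hy]; exact H.mul_mem (H.mul_mem hs.2 hwH) hsinv
  -- times w⁻¹
  have hwinv : (tv (v.1 *ᵥ b) φ₀)⁻¹ = tv (v.1 *ᵥ b) (-φ₀) := by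
    rw [tv_inv hφvb]
    have := tv_smul_comm (-1 : F) (v.1 *ᵥ b) φ₀
    rwa [neg_one_smul, neg_one_smul] at this
  have hsum : (φ₀ + (-(φ₀ 0 * s)) • eL) ⬝ᵥ (v.1 *ᵥ b) = 0 := by
    rw [add_dotProduct, smul_dotProduct, hφvb, heLvb, smul_zero, add_zero]
  have hneg : (-φ₀) ⬝ᵥ (v.1 *ᵥ b) = 0 := by rw [neg_dotProduct, hφvb, neg_zero]
  have hprod := tv_mul_same_vec hsum hneg
  have hsimp : φ₀ + (-(φ₀ 0 * s)) • eL + -φ₀ = (-φ₀ 0 * s) • eL := by
    rw [neg_mul]; abel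
  rw [hsimp, ← tv_smul_comm] at hprod
  refine ⟨?_, ?_⟩
  · rw [Pi.smul_apply, hvb, smul_zero]
  · rw [← hprod, ← hwinv]
    exact H.mul_mem hyH (H.inv_mem hwH)

section main

variable (u v : Matrix.SpecialLinearGroup (Fin (m + 3)) F)
  (c : Fin (m + 2) → F)

theorem phi0_ne_zero (hc : ∀ i, c i ≠ 0)
    (hvc : ∀ i : Fin (m + 2), v.1 *ᵥ (bv i.castSucc : Fin (m + 3) → F)
      = bv i.castSucc + c i • bv i.succ)
    (hvl : v.1 *ᵥ (bv (Fin.last _) : Fin (m + 3) → F) = bv (Fin.last _)) :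
    ∀ j : Fin (m + 3), ((bv (Fin.last _) : Fin (m + 3) → F) ᵥ* (v⁻¹).1) j ≠ 0 := by
  set φ₀ : Fin (m + 3) → F := (bv (Fin.last _) : Fin (m + 3) → F) ᵥ* (v⁻¹).1 with hφ₀
  have hφv : φ₀ ᵥ* v.1 = bv (Fin.last _) := by
    rw [hφ₀, vecMul_vecMul, inv_val_mul, vecMul_one]
  have key : ∀ j : Fin (m + 3), φ₀ ⬝ᵥ (v.1 *ᵥ (bv j : Fin (m + 3) → F))
      = (bv (Fin.last _) : Fin (m + 3) → F) j := by
    intro j
    rw [dotProduct_mulVec, hφv, dot_bv]
  intro j
  induction j using Fin.reverseInduction with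
  | last =>
    have := key (Fin.last _)
    rw [hvl, dot_bv] at this
    rw [this]
    simp [bv]
  | cast i ih =>
    have := key i.castSucc
    rw [hvc, dotProduct_add, dotProduct_smul, dot_bv, dot_bv] at this
    have h0 : (bv (Fin.last _) : Fin (m + 3) → F) i.castSucc = 0 := by
      simp [bv, Fin.castSucc_ne_last]
    rw [h0, smul_eq_mul] at this
    intro hz
    rw [hz, zero_add] at this
    exact mul_ne_zero (hc i) ih this

variable {u v c}

theorem partA (hu : u ∈ H) (hv : v ∈ H) (hc : ∀ i, c i ≠ 0)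
    (hvc : ∀ i : Fin (m + 2), v.1 *ᵥ (bv i.castSucc : Fin (m + 3) → F)
      = bv i.castSucc + c i • bv i.succ)
    (hvl : v.1 *ᵥ (bv (Fin.last _) : Fin (m + 3) → F) = bv (Fin.last _))
    (hur : (bv (Fin.last _) : Fin (m + 3) → F) ᵥ* u.1 = bv (Fin.last _))
    (huc : u.1 *ᵥ (bv 1 : Fin (m + 3) → F) = bv 1 + bv 0)
    (ζ : F) (hζ : ∀ x : F, x ≠ 0 → ∃ k : ℕ, x = ζ ^ k) (hc0 : c 0 = ζ)
    (hy : InA H ((-((bv (Fin.last _) : Fin (m + 3) → F) ᵥ* (v⁻¹).1) 0)⁻¹ •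
      (bv 0 : Fin (m + 3) → F))) :
    Qin H (bv (Fin.last _) : Fin (m + 3) → F) := by
  set κ : F := -((bv (Fin.last _) : Fin (m + 3) → F) ᵥ* (v⁻¹).1) 0 with hκ
  have hκ0 : κ ≠ 0 := by
    rw [hκ]; exact neg_ne_zero.mpr (phi0_ne_zero v c hc hvc hvl 0)
  have h01 : (0 : Fin (m + 3)) ≠ Fin.last _ := by
    intro h; have := congrArg Fin.val h; simp at this
  have h11 : (1 : Fin (m + 3)) ≠ Fin.last _ := by
    intro h; have := congrArg Fin.val h; simp at this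
  have hv0 : v.1 *ᵥ (bv 0 : Fin (m + 3) → F) = bv 0 + c 0 • bv 1 := by
    have := hvc 0
    simpa using this
  -- step 1
  have step1 : ∀ k : ℕ, InA H ((κ⁻¹ * ζ ^ k) • (bv 0 : Fin (m + 3) → F)) := by
    intro k
    induction k with
    | zero => simpa using hy
    | succ k ih =>
      have hvb : (v.1 *ᵥ ((κ⁻¹ * ζ ^ k) • (bv 0 : Fin (m + 3) → F))) (Fin.last _) = 0 := by
        rw [mulVec_smul, hv0]
        simp [bv, h01.symm, h11.symm]
      have h1 := InA.comm_v hv hy ih hvb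
      rw [← hκ, mul_inv_cancel₀ hκ0, one_smul, mulVec_smul, hv0, smul_add, smul_smul] at h1
      have h2 := h1.sub ih
      rw [add_sub_cancel_left, hc0] at h2
      have h3 := (InA.conj_u hu hur h2).sub h2
      rw [mulVec_smul, huc, smul_add, add_sub_cancel_left] at h3
      rw [pow_succ, ← mul_assoc]
      exact h3
  -- step 2
  have step2 : ∀ s : F, InA H (s • (bv 0 : Fin (m + 3) → F)) := by
    intro s
    by_cases hs : s = 0
    · subst hs; rw [zero_smul]; exact InA.zero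
    · obtain ⟨k, hk⟩ := hζ (κ * s) (mul_ne_zero hκ0 hs)
      have := step1 k
      rwa [← hk, ← mul_assoc, inv_mul_cancel₀ hκ0, one_mul] at this
  -- step 3
  have step3 : ∀ j : Fin (m + 3), j ≠ Fin.last _ → ∀ s : F,
      InA H (s • (bv j : Fin (m + 3) → F)) := by
    intro j
    induction j using Fin.induction with
    | zero => intro _ s; exact step2 s
    | succ i ih =>
      intro hi s
      have ih' := ih (Fin.castSucc_ne_last i)
      have hb := ih' (s / c i)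
      have hvb : (v.1 *ᵥ ((s / c i) • (bv i.castSucc : Fin (m + 3) → F))) (Fin.last _) = 0 := by
        rw [mulVec_smul, hvc]
        simp [bv, hi.symm, (Fin.castSucc_ne_last i).symm]
      have h1 := InA.comm_v hv hy hb hvb
      rw [← hκ, mul_inv_cancel₀ hκ0, one_smul, mulVec_smul, hvc, smul_add, smul_smul] at h1
      have h2 := h1.sub hb
      rw [add_sub_cancel_left, div_mul_cancel₀ _ (hc i)] at h2
      exact h2
  -- step 4
  intro a ha
  rw [bv_dot] at ha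
  have hsum : a = ∑ j, a j • (bv j : Fin (m + 3) → F) := by
    ext i
    simp [bv, Finset.sum_apply, Pi.single_apply]
  have hall : InA H (∑ j, a j • (bv j : Fin (m + 3) → F)) := by
    apply Finset.sum_induction _ (InA H) (fun _ _ => InA.add) InA.zero
    intro j _
    by_cases hj : j = Fin.last _
    · rw [hj, ha, zero_smul]; exact InA.zero
    · exact step3 j hj (a j)
  rw [← hsum] at hall
  exact hall.2

theorem partB (hv : v ∈ H) (hc : ∀ i, c i ≠ 0)
    (hvr : ∀ i : Fin (m + 2), (bv i.succ : Fin (m + 3) → F) ᵥ* v.1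
      = bv i.succ + c i • bv i.castSucc)
    (hL : Qin H (bv (Fin.last _) : Fin (m + 3) → F)) :
    ∀ j : Fin (m + 3), Qin H (bv j : Fin (m + 3) → F) := by
  intro j
  induction j using Fin.reverseInduction with
  | last => exact hL
  | cast i ih =>
    have h1 := Qin_conj hv ih
    rw [hvr] at h1
    have hne : i.succ ≠ i.castSucc := (Fin.castSucc_lt_succ).ne'
    have hdot : (bv i.succ : Fin (m + 3) → F) ⬝ᵥ ((c i)⁻¹ • (bv i.castSucc : Fin (m + 3) → F)) = 0 := by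
      rw [bv_dot]; simp [bv, hne]
    have ht := ih _ hdot
    have h2 := Qin_conj (H.inv_mem ht) h1
    rw [tv_inv hdot, tv_val (by rw [dotProduct_neg, hdot, neg_zero]), vecMul_Tm] at h2
    have hcalc : ((bv i.succ : Fin (m + 3) → F) + c i • bv i.castSucc) ⬝ᵥ
        (-((c i)⁻¹ • (bv i.castSucc : Fin (m + 3) → F))) = -1 := by
      rw [dotProduct_neg, dotProduct_smul, dot_bv]
      simp [bv, hne.symm, hc i]
    rw [hcalc, neg_one_smul] at h2
    have hab : (bv i.succ : Fin (m + 3) → F) + c i • bv i.castSucc + -bv i.succ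
        = c i • bv i.castSucc := by abel
    rw [hab] at h2
    exact Qin_of_smul (hc i) h2

end main

end Cfsg.Agent.RegUni
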