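import Mathlib

set_option autoImplicit false

namespace Cfsg.Agent.RegUni

open Matrix

variable {F : Type*} [Field F] {ι : Type*} [Fintype ι] [DecidableEq ι]

/-- the matrix `1 + a φ` (column `a`, row `φ`). -/
def Tm (a φ : ι → F) : Matrix ι ι F := 1 + vecMulVec a φ

theorem det_Tm (a φ : ι → F) : (Tm a φ).det = 1 + φ ⬝ᵥ a := by
  unfold Tm
  rw [vecMulVec_eq Unit, det_one_add_replicateCol_mul_replicateRow]

/-- auxiliary: the transvection with its proof. -/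
def tvAux (a φ : ι → F) (h : φ ⬝ᵥ a = 0) : Matrix.SpecialLinearGroup ι F :=
  ⟨Tm a φ, by rw [det_Tm, h, add_zero]⟩

open Classical in
/-- the transvection `1 + a φ` in `SL`, when `φ a = 0` (junk value `1` otherwise). -/
noncomputable def tv (a φ : ι → F) : Matrix.SpecialLinearGroup ι F :=
  if h : φ ⬝ᵥ a = 0 then tvAux a φ h else 1

theorem tv_val {a φ : ι → F} (h : φ ⬝ᵥ a = 0) : (tv a φ).1 = Tm a φ := by
  unfold tv; rw [dif_pos h]; rfl

theorem inv_val_mul (g : Matrix.SpecialLinearGroup ι F) : (g⁻¹).1 * g.1 = 1 := by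
  rw [Matrix.SpecialLinearGroup.coe_inv, adjugate_mul, g.2, one_smul]

theorem val_mul_inv (g : Matrix.SpecialLinearGroup ι F) : g.1 * (g⁻¹).1 = 1 := by
  rw [Matrix.SpecialLinearGroup.coe_inv, mul_adjugate, g.2, one_smul]

theorem Tm_mul_Tm (a φ b ψ : ι → F) :
    Tm a φ * Tm b ψ = 1 + vecMulVec a φ + vecMulVec b ψ + (φ ⬝ᵥ b) • vecMulVec a ψ := by
  unfold Tm
  rw [add_mul, mul_add, mul_add, one_mul, mul_one, Matrix.one_mul, vecMulVec_mul_vecMulVec,
    vecMulVec_smul]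
  abel

theorem tv_mul_same_covec {a b φ : ι → F} (ha : φ ⬝ᵥ a = 0) (hb : φ ⬝ᵥ b = 0) :
    tv a φ * tv b φ = tv (a + b) φ := by
  have hab : φ ⬝ᵥ (a + b) = 0 := by rw [dotProduct_add, ha, hb, add_zero]
  apply Subtype.ext
  rw [Matrix.SpecialLinearGroup.coe_mul, tv_val ha, tv_val hb, tv_val hab, Tm_mul_Tm, hb, zero_smul,
    add_zero]
  unfold Tm
  rw [add_vecMulVec, add_assoc]

theorem tv_mul_same_vec {a φ ψ : ι → F} (hφ : φ ⬝ᵥ a = 0) (hψ : ψ ⬝ᵥ a = 0) :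
    tv a φ * tv a ψ = tv a (φ + ψ) := by
  have hab : (φ + ψ) ⬝ᵥ a = 0 := by rw [add_dotProduct, hφ, hψ, add_zero]
  apply Subtype.ext
  rw [Matrix.SpecialLinearGroup.coe_mul, tv_val hφ, tv_val hψ, tv_val hab, Tm_mul_Tm, hφ, zero_smul,
    add_zero]
  unfold Tm
  rw [vecMulVec_add, add_assoc]

theorem tv_zero_left (φ : ι → F) : tv (0 : ι → F) φ = 1 := by
  apply Subtype.ext
  rw [tv_val (by simp)]
  unfold Tm
  simp

theorem tv_zero_right (a : ι → F) : tv a (0 : ι → F) = 1 := by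
  apply Subtype.ext
  rw [tv_val (by simp)]
  unfold Tm
  simp

theorem tv_inv {a φ : ι → F} (h : φ ⬝ᵥ a = 0) : (tv a φ)⁻¹ = tv (-a) φ := by
  have h' : φ ⬝ᵥ (-a) = 0 := by rw [dotProduct_neg, h, neg_zero]
  apply inv_eq_of_mul_eq_one_right
  rw [tv_mul_same_covec h h', add_neg_cancel, tv_zero_left]

theorem tv_smul_comm (c : F) (a φ : ι → F) : tv (c • a) φ = tv a (c • φ) := by
  by_cases h : φ ⬝ᵥ a = 0
  · have h1 : φ ⬝ᵥ (c • a) = 0 := by rw [dotProduct_smul, h, smul_zero]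
    have h2 : (c • φ) ⬝ᵥ a = 0 := by rw [smul_dotProduct, h, smul_zero]
    apply Subtype.ext
    rw [tv_val h1, tv_val h2]
    unfold Tm
    rw [smul_vecMulVec, vecMulVec_smul]
  · by_cases hc : c = 0
    · subst hc
      rw [zero_smul, zero_smul, tv_zero_left, tv_zero_right]
    · have h1 : ¬ φ ⬝ᵥ (c • a) = 0 := by
        rw [dotProduct_smul, smul_eq_mul]
        exact mul_ne_zero hc h
      have h2 : ¬ (c • φ) ⬝ᵥ a = 0 := by
        rw [smul_dotProduct, smul_eq_mul]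
        exact mul_ne_zero hc h
      unfold tv
      rw [dif_neg h1, dif_neg h2]

theorem conj_tv (g : Matrix.SpecialLinearGroup ι F) {a φ : ι → F} (h : φ ⬝ᵥ a = 0) :
    g * tv a φ * g⁻¹ = tv (g.1 *ᵥ a) (φ ᵥ* (g⁻¹).1) := by
  have h' : (φ ᵥ* (g⁻¹).1) ⬝ᵥ (g.1 *ᵥ a) = 0 := by
    rw [← dotProduct_mulVec, mulVec_mulVec, inv_val_mul, one_mulVec, h]
  apply Subtype.ext
  rw [Matrix.SpecialLinearGroup.coe_mul, Matrix.SpecialLinearGroup.coe_mul, tv_val h, tv_val h']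
  unfold Tm
  rw [mul_add, add_mul, mul_one, val_mul_inv, mul_vecMulVec, vecMulVec_mul]

end Cfsg.Agent.RegUni
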